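import Cfsg.Agent.OddHalf.DblR.HexK.AutForm
import Cfsg.Agent.OddHalf.D4.KPairG
import Cfsg.Agent.OddHalf.Quat.RowHex

/-!
# `G₂(q)`, `³D₄(q)`: (F1)

`innSyl` : automorphisms centralising a Sylow 2-subgroup `T` are conjugations by elements of `T`.
-/

set_option autoImplicit false
set_option maxHeartbeats 400000

namespace Cfsg.Agent.OddHalf.DblR.HexG

open Subgroup Cfsg.Agent.StdRank2.Hex Cfsg.Agent.StdRank2.Hex.HexTwo Cfsg.Agent.SplitTwo
open Cfsg.Agent.OddHalf.D4

variable {E : Type*} [Field E] {σ : E ≃+* E} {X : Type*} [Group X] {x : ZMod 12 → E → X}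

theorem innSyl [Finite E] [Finite X] (h : HexTwo σ x) (htop : AA σ x = ⊤) (hN : NotTwo σ) : KPairG.InnSyl X := by
  intro S φ _ hφ
  obtain ⟨y, hy, hytop, hS⟩ := Quat.RowHex.exists_sylow h htop S
  have hinj : Function.Injective (MulAut.conj : X →* MulAut X) := by
    rw [injective_iff_map_eq_one]
    intro g hg
    refine center_eq_one hy (by rw [hytop]; exact mem_top _) fun k a _ => ?_
    have := congrArg (fun f : MulAut X => f (y k a)) hg
    exact this
  have h' : HexTwo σ (fun k a => MulAut.conj (y k a)) := hy.map MulAut.conj hinj fun _ _ _ => rfl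
  have hgen : ∀ S : Set (ZMod 12), gen σ (fun k a => MulAut.conj (y k a)) S = (gen σ y S).map MulAut.conj := fun S =>
    map_gen (x := y) (y := fun k a => MulAut.conj (y k a)) MulAut.conj (fun _ _ _ => rfl) S
  have hact : ∀ (α : MulAut X) (v : X), α * MulAut.conj v * α⁻¹ = MulAut.conj (α v) := by
    intro α v
    ext w
    simp only [MulAut.mul_apply, MulAut.conj_apply, map_mul, map_inv, MulAut.apply_inv_self]
  have : Finite (MulAut X) := Finite.of_injective (fun f : MulAut X => (f : X → X)) fun f g h =>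
    MulEquiv.ext fun t => congrFun h t
  obtain ⟨z, hz, hz'⟩ := HexK.aut_U h' hN (c := φ) (by
    intro v hv
    rw [AA, hgen] at hv ⊢
    obtain ⟨w, -, rfl⟩ := hv
    rw [hact]
    refine ⟨φ w, ?_, rfl⟩
    change φ w ∈ AA σ y
    rw [hytop]; exact mem_top _) (by
    intro v hv
    rw [UU, hgen] at hv
    obtain ⟨w, hw, rfl⟩ := hv
    have h1 : w ∈ S := by
      have : w ∈ (S : Subgroup X) := by rw [hS]; exact hw
      exact this
    have h2 := hact φ w
    rw [hφ w h1] at h2
    exact mul_inv_eq_iff_eq_mul.1 h2)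
  rw [hgen] at hz
  obtain ⟨s, hs, rfl⟩ := hz
  refine ⟨s, ?_, ?_⟩
  · have h1 : s ∈ (S : Subgroup X) := by
      rw [hS]
      exact gen_mono (by rintro l rfl; rw [mem_arc]; decide) hs
    exact h1
  · -- `z⁻¹ φ = 1`
    have h1 : (MulAut.conj s)⁻¹ * φ = 1 := by
      ext v
      have h2 : MulAut.conj v ∈ AA σ (fun k a => MulAut.conj (y k a)) := by
        rw [AA, hgen]
        refine ⟨v, ?_, rfl⟩
        change v ∈ AA σ y
        rw [hytop]; exact mem_top _
      have h3 := mem_centralizer_iff.1 hz' _ h2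
      have h4 := hact ((MulAut.conj s)⁻¹ * φ) v
      rw [← h3, mul_inv_cancel_right] at h4
      exact (hinj h4).symm
    exact (inv_mul_eq_one.1 h1).symm

end Cfsg.Agent.OddHalf.DblR.HexG
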