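import Cfsg.Agent.OddHalf.DblR.HexG.False
import Cfsg.Agent.OddHalf.DblR.HexG.InnSyl
import Cfsg.Agent.OddHalf.D4.StartFree
import Cfsg.Agent.OddHalf.D4.HexFree.Main

/-!
# ODD, D4: the rows two.g2e and two.d4te, `K ≅ G₂(2^a)`, `a ≥ 3`, `K ≅ ³D₄(2^a)`, `a ≥ 2`

* `hend_of_hex` : `Inp` and `EndHyp` for `IsHex K`;
* `innSyl_of_hex`;
* **`g2e`**, **`d4te`** : the rows.
-/

set_option autoImplicit false
set_option maxHeartbeats 400000

namespace Cfsg.Agent.OddHalf.DblR.HexG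

open Subgroup Cfsg Cfsg.Agent.StdRank2.Hex Cfsg.Agent.StdRank2.Hex.HexTwo Cfsg.Agent.SplitTwo
open Cfsg.Agent.OddHalf.D4 Cfsg.Agent.OddHalf.D4.Basic

universe u

theorem hend_of_hex {G : Type u} [Group G] [Finite G] (hFT : Spor.FTT.{u}) {K : Subgroup G} (hD : StartQ.DataQ K)
    (hK : IsHex K) : ∃ S X H : Subgroup G, Input.Inp K S X H ∧ Input.EndHyp K X := by
  obtain ⟨E, _, _, σ, x, h, rfl, hg, hω, -⟩ := hK
  have hi := inp_of_std hFT h hω hD.stdK hD.simple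
  exact ⟨_, _, _, hi, endHyp h hg hω hi.std1⟩

theorem innSyl_of_hex {X : Type u} [Group X] [Finite X] (hX : IsHex (⊤ : Subgroup X)) : KPairG.InnSyl X := by
  obtain ⟨E, _, _, σ, x, h, htop, -, hω, -⟩ := hX
  exact innSyl h htop (notTwo_of hω)

theorem g2e_congr {X Y : Type u} [Group X] [Group Y] (e : Y ≃* X) (h : Cut.G2e X) : Cut.G2e Y := by
  obtain ⟨F, i1, i2, a, ha, hF, ⟨f⟩⟩ := h
  exact ⟨F, i1, i2, a, ha, hF, ⟨e.trans f⟩⟩

theorem d4te_congr {X Y : Type u} [Group X] [Group Y] (e : Y ≃* X) (h : Cut.D4te X) : Cut.D4te Y := by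
  obtain ⟨F, i1, i2, a, ha, hF, ⟨f⟩⟩ := h
  exact ⟨F, i1, i2, a, ha, hF, ⟨e.trans f⟩⟩

/-- the conjugation isomorphism -/
noncomputable def cjEquiv {G : Type u} [Group G] (K : Subgroup G) (g : G) : ↥K ≃* ↥(CommConj.cj g K) :=
  K.equivMapOfInjective (MulAut.conj g).toMonoidHom (MulAut.conj g).injective

/-- **Row two.g2e.** -/
theorem g2e (h1173 : Start.P1173.{u}) (hFT : Spor.FTT.{u}) : Cut.Row1.{u} (fun K _ => Cut.G2e K) := by
  refine StartQ.row_of_free h1173 hFT ?_ ?_ ?_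
  · intro X _ _ _ hX
    exact innSyl_of_hex (isHex_g2 (g2e_congr Subgroup.topEquiv hX))
  · intro G _ hG K _ hD hK
    have := hG.fin
    exact hend_of_hex hFT hD (isHex_g2 hK)
  · intro G _ hG K _ _ hK g
    have := hG.fin
    obtain ⟨F, _, _, a, ha, hF, ⟨e⟩⟩ := hK
    exact HexFree.g2 (by omega) hF (e.symm.trans (cjEquiv K g))

/-- **Row two.d4te.** -/
theorem d4te (h1173 : Start.P1173.{u}) (hFT : Spor.FTT.{u}) : Cut.Row1.{u} (fun K _ => Cut.D4te K) := by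
  refine StartQ.row_of_free h1173 hFT ?_ ?_ ?_
  · intro X _ _ _ hX
    exact innSyl_of_hex (isHex_d4 (d4te_congr Subgroup.topEquiv hX))
  · intro G _ hG K _ hD hK
    have := hG.fin
    exact hend_of_hex hFT hD (isHex_d4 hK)
  · intro G _ hG K _ _ hK g
    have := hG.fin
    obtain ⟨F, _, _, a, ha, hF, ⟨e⟩⟩ := hK
    exact HexFree.d4 ha hF (e.symm.trans (cjEquiv K g))

end Cfsg.Agent.OddHalf.DblR.HexG
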