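import Cfsg.Agent.OddHalf.DblR.HexG.NormGen
import Cfsg.Agent.OddHalf.D4.Cut
import Cfsg.Agent.HexModel.Main

/-!
# ODD, D4: the subgroups `K ≅ G₂(2^a)`, `a ≥ 3`, and `K ≅ ³D₄(2^a)`, `a ≥ 2`, of `G` with hexagonal coordinates

`IsHex K` : `K = ⟨X_k⟩` for a system `HexTwo σ x` in `G`, the norms generate the fixed field of `σ`, which has at least
four elements. `isHex_g2`, `isHex_d4`.
-/

set_option autoImplicit false
set_option maxHeartbeats 400000

namespace Cfsg.Agent.OddHalf.DblR.HexG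

open Subgroup Cfsg.Lie Cfsg.Agent.StdRank2.Hex Cfsg.Agent.StdRank2.Hex.HexTwo Cfsg.Agent.SplitTwo
open Cfsg.Agent.OddHalf.D4

universe u

/-- hexagonal coordinates on `K` -/
def IsHex {G : Type u} [Group G] (K : Subgroup G) : Prop :=
  ∃ (E : Type) (_ : Field E) (_ : Finite E) (σ : E ≃+* E) (x : ZMod 12 → E → G), HexTwo σ x ∧ AA σ x = K ∧
    HexK.NormGen σ ∧ (∃ ω : E, σ ω = ω ∧ ω ≠ 0 ∧ ω ≠ 1) ∧
    ((∀ b, σ b = b → b ≠ 0 → ∃ s, s ≠ 0 ∧ nrm σ s = b) ∨ σ = RingEquiv.refl E)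

/-- transport from the model -/
theorem exists_of_top {E : Type*} [Field E] {σ : E ≃+* E} {Y : Type*} [Group Y] {y : ZMod 12 → E → Y}
    (h : HexTwo σ y) (htop : AA σ y = ⊤) {G : Type*} [Group G] {K : Subgroup G} (e : ↥K ≃* Y) :
    ∃ x : ZMod 12 → E → G, HexTwo σ x ∧ AA σ x = K := by
  let f : Y →* G := K.subtype.comp e.symm.toMonoidHom
  have hf : Function.Injective f := K.subtype_injective.comp e.symm.injective
  refine ⟨fun k a => f (y k a), h.map f hf fun _ _ _ => rfl, ?_⟩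
  unfold AA at htop ⊢
  rw [map_gen (x := y) (y := fun k a => f (y k a)) f (fun _ _ _ => rfl), htop, ← MonoidHom.range_eq_map]
  ext g
  constructor
  · rintro ⟨z, rfl⟩
    exact (e.symm z).2
  · intro hg
    refine ⟨e ⟨g, hg⟩, ?_⟩
    change ((e.symm (e ⟨g, hg⟩) : ↥K) : G) = g
    rw [e.symm_apply_apply]

theorem notTwo_of {E : Type*} [Field E] {σ : E ≃+* E} (hω : ∃ ω : E, σ ω = ω ∧ ω ≠ 0 ∧ ω ≠ 1) : NotTwo σ := by
  obtain ⟨ω, h1, h2, h3⟩ := hω
  refine Or.inl ⟨ω, h1, fun h0 => ?_⟩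
  have : ω * (ω - 1) = 0 := by linear_combination h0
  rcases mul_eq_zero.1 this with h | h
  · exact h2 h
  · exact h3 (sub_eq_zero.1 h)

theorem four_le {E : Type*} [Field E] [Finite E] (two : (2 : E) = 0) {ω : E} (h2 : ω ≠ 0) (h3 : ω ≠ 1) :
    4 ≤ Nat.card E := by
  have := Fintype.ofFinite E
  classical
  rw [Nat.card_eq_fintype_card]
  have hc : ({0, 1, ω, ω + 1} : Finset E).card = 4 := by
    have a1 : (0 : E) ≠ 1 := zero_ne_one
    have a2 : (0 : E) ≠ ω := h2.symm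
    have a3 : (0 : E) ≠ ω + 1 := fun h0 => h3 (by linear_combination -h0 - two)
    have a4 : (1 : E) ≠ ω := h3.symm
    have a5 : (1 : E) ≠ ω + 1 := fun h0 => h2 (by linear_combination -h0)
    have a6 : ω ≠ ω + 1 := fun h0 => one_ne_zero (α := E) (by linear_combination -h0)
    rw [Finset.card_insert_of_notMem (by simp [a1, a2, a3]), Finset.card_insert_of_notMem (by simp [a4, a5]),
      Finset.card_insert_of_notMem (by simp), Finset.card_singleton]
  rw [← hc, ← Finset.card_univ]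
  exact Finset.card_le_card (Finset.subset_univ _)

theorem isHex_g2 {G : Type u} [Group G] {K : Subgroup G} (h : Cut.G2e ↥K) : IsHex K := by
  obtain ⟨F, _, _, a, ha, hF, ⟨e⟩⟩ := h
  have h2 : (2 : F) = 0 := HexModel.Main.two_eq_zero hF
  obtain ⟨x, hx, hK⟩ := exists_of_top (HexModel.G2.hexTwo h2) HexModel.Main.g2_top e
  have h8 : 8 ≤ Nat.card F := by
    rw [Nat.card_eq_fintype_card, hF]
    calc 8 = 2 ^ 3 := by norm_num
      _ ≤ 2 ^ a := Nat.pow_le_pow_right (by norm_num) ha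
  refine ⟨F, inferInstance, inferInstance, RingEquiv.refl F, x, hx, hK, NormGen.refl h2 h8, ?_, Or.inr rfl⟩
  classical
  have h1 : ({0, 1} : Finset F).card < (Finset.univ : Finset F).card := by
    refine lt_of_le_of_lt Finset.card_le_two ?_
    rw [Finset.card_univ, ← Nat.card_eq_fintype_card]
    omega
  obtain ⟨s, -, hs⟩ := Finset.exists_mem_notMem_of_card_lt_card h1
  simp only [Finset.mem_insert, Finset.mem_singleton, not_or] at hs
  exact ⟨s, rfl, hs.1, hs.2⟩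

theorem isHex_d4 {G : Type u} [Group G] {K : Subgroup G} (h : Cut.D4te ↥K) : IsHex K := by
  obtain ⟨F, _, _, a, ha, hF, ⟨e⟩⟩ := h
  have h2 : (2 : F) = 0 := by
    apply HexModel.Main.two_eq_zero (n := 3 * a)
    rw [hF, pow_mul]; norm_num
  obtain ⟨σ, hσ, h3, hne, hc⟩ := HexModel.Main.exists_sigma (by omega : 1 ≤ a) hF
  obtain ⟨x, hx, hK⟩ := exists_of_top (HexModel.Main.d4_hexTwo hσ h2 h3) (HexModel.Main.d4_top hσ h2) e
  refine ⟨F, inferInstance, inferInstance, σ, x, hx, hK, NormGen.of_ne σ h3 hne, ?_,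
    Or.inl (NormGen.norm_onto σ h3 hne)⟩
  classical
  have : Fintype {c : F // σ c = c} := Fintype.ofFinite _
  have h1 : ({⟨0, map_zero σ⟩, ⟨1, map_one σ⟩} : Finset {c : F // σ c = c}).card <
      (Finset.univ : Finset {c : F // σ c = c}).card := by
    refine lt_of_le_of_lt Finset.card_le_two ?_
    rw [Finset.card_univ, ← Nat.card_eq_fintype_card, hc]
    calc 2 < 2 ^ 2 := by norm_num
      _ ≤ 2 ^ a := Nat.pow_le_pow_right (by norm_num) ha
  obtain ⟨s, -, hs⟩ := Finset.exists_mem_notMem_of_card_lt_card h1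
  simp only [Finset.mem_insert, Finset.mem_singleton, not_or] at hs
  exact ⟨s, s.2, fun h0 => hs.1 (Subtype.ext h0), fun h0 => hs.2 (Subtype.ext h0)⟩

end Cfsg.Agent.OddHalf.DblR.HexG
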