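import Cfsg.Agent.OddHalf.DblR.HexG.Inst
import Cfsg.Agent.OddHalf.DblR.HexG.Model
import Cfsg.Agent.OddHalf.DblR.HexK.Pair
import Cfsg.Agent.OddHalf.DblR.InpEnd
import Cfsg.Agent.OddHalf.D4.EvenPair

/-!
# ODD, D4: `K ≅ G₂(2^a)`, `a ≥ 3`, `K ≅ ³D₄(2^a)`, `a ≥ 2`: the end of case (a)

**`no_full`** : `K` standard, simple, `m_2(C(K)) ≥ 2`, `IsHex K`: there is no full pair `K`, `L` such that `N(L)` contains
a Sylow 2-subgroup of `K`.
-/

set_option autoImplicit false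
set_option maxHeartbeats 400000
set_option linter.unusedSectionVars false

namespace Cfsg.Agent.OddHalf.DblR.HexG

open Subgroup Cfsg Cfsg.Agent.StdRank2.Hex Cfsg.Agent.StdRank2.Hex.HexTwo Cfsg.Agent.SplitTwo
open Cfsg.Agent.OddHalf.D4 Cfsg.Agent.OddHalf.D4.Basic
open scoped commutatorElement

universe u

variable {G : Type u} [Group G] [Finite G]

/-- `K` does not commute with its conjugates -/
theorem not_comm_of_std {K : Subgroup G} (hK : IsStandardSubgroup K) (hs : IsSimpleGroup ↥K)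
    (hz : ∀ x ∈ K, x ∈ centralizer (K : Set G) → x = 1) (g : G) :
    ¬ ∀ k ∈ K, ∀ l ∈ CommConj.cj g K, k * l = l * k := by
  intro hcon
  by_cases h1 : K.map (MulAut.conj g).toMonoidHom = K
  · -- `K` would be abelian
    have := hs.toNontrivial
    obtain ⟨k, hk⟩ := _root_.exists_ne (1 : ↥K)
    apply hk
    apply Subtype.ext
    apply hz k k.2
    rw [mem_centralizer_iff]
    intro l hl
    have hl' : l ∈ CommConj.cj g K := by
      change l ∈ K.map (MulAut.conj g).toMonoidHom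
      rw [h1]; exact hl
    exact (hcon k k.2 l hl').symm
  · apply hK.2.2.1 g h1
    rw [commutator_eq_bot_iff_le_centralizer]
    intro a ha
    rw [mem_centralizer_iff]
    intro b hb
    exact (hcon a ha b hb).symm

/-- the facts `Inp` for `K` standard -/
theorem inp_of_std (hFT : CoreOf.FTu.{u}) {E : Type*} [Field E] [Finite E] {σ : E ≃+* E} {x : ZMod 12 → E → G}
    (h : HexTwo σ x) (hω : ∃ ω : E, σ ω = ω ∧ ω ≠ 0 ∧ ω ≠ 1) (hstd : IsStandardSubgroup (AA σ x))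
    (hs : IsSimpleGroup ↥(AA σ x)) : Input.Inp (AA σ x) (UU σ x) (gen σ x {4}) (gen σ x (arc 1 7)) := by
  have h4 : 4 ≤ Nat.card E := by
    obtain ⟨ω, -, h2, h3⟩ := hω
    exact four_le h.two h2 h3
  exact inp h hFT (notTwo_of hω) h4 (EvenPair.tight_of_standard hstd) hstd.2.1.1
    (not_comm_of_std hstd hs fun x hx hc => center_eq h hx hc) hs

theorem endHyp {E : Type*} [Field E] [Finite E] {σ : E ≃+* E} {x : ZMod 12 → E → G} (h : HexTwo σ x)
    (hg : HexK.NormGen σ) (hω : ∃ ω : E, σ ω = ω ∧ ω ≠ 0 ∧ ω ≠ 1) (St : Std1 (AA σ x)) :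
    Input.EndHyp (AA σ x) (gen σ x {4}) := by
  obtain ⟨ω, h1, h2, h3⟩ := hω
  intro D hD hD2 hDmax hC1 t t' ht ht1 ht' ht1' hne γ k hk hg1 hg2 hg3
  exact HexK.row h hg h1 h2 h3 St hD hD2 hDmax hC1 ht ht1 ht' ht1' hne hk hg1 hg2 hg3

/-- **The end of case (a).** -/
theorem no_full (hFT : CoreOf.FTu.{u}) {K : Subgroup G} (hK : IsHex K) (hstd : IsStandardSubgroup K)
    (hs : IsSimpleGroup ↥K) (hr : ¬ PRankLE 2 1 ↥(centralizer (K : Set G))) {L Q U : Subgroup G}
    (hp : FullPair K L Q U) {S' : Subgroup G} (hS' : IsSyl S' K) (hS'L : S' ≤ normalizer (L : Set G)) : False := by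
  obtain ⟨E, _, _, σ, x, h, rfl, hg, hω, -⟩ := hK
  have hi := inp_of_std hFT h hω hstd hs
  exact hi.no_full (endHyp h hg hω hi.std1) hr hp hS' hS'L

end Cfsg.Agent.OddHalf.DblR.HexG
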