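import Cfsg.Agent.OddHalf.DblR.HexG.Levi
import Cfsg.Agent.OddHalf.DblR.CoreOf
import Cfsg.Agent.OddHalf.D4.Input
import Cfsg.Agent.HexStart.HexLong

/-!
# `G₂(q)`, `³D₄(q)`: the facts `Inp` of `D4/Input.lean`

`K = ⟨X_k⟩`, `S = ⟨X₁, …, X₆⟩`, `X = X₄`, `H = ⟨X₁, …, X₇⟩`, `|E| ≥ 4`.
-/

set_option autoImplicit false
set_option maxHeartbeats 400000
set_option linter.unusedSectionVars false

namespace Cfsg.Agent.OddHalf.DblR.HexG

open Subgroup Cfsg.Agent.StdRank2.Hex Cfsg.Agent.StdRank2.Hex.HexTwo Cfsg.Agent.SplitTwo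
open Cfsg.Agent.OddHalf.D4 Cfsg.Agent.OddHalf.D4.Basic
open scoped commutatorElement

universe u

section

variable {E : Type*} [Field E] {σ : E ≃+* E} {G : Type u} [Group G] {x : ZMod 12 → E → G} (h : HexTwo σ x)
include h

theorem UU_le : UU σ x ≤ gen σ x (arc 1 7) := gen_mono (arc_mono (by norm_num))

theorem Q_two [Finite E] : IsPGroup 2 ↥(gen σ x (arc 2 5)) :=
  h.isPGroup_U.to_le (gen_mono (by
    intro l hl
    rw [mem_arc] at hl ⊢
    have : ∀ l : ZMod 12, (l - 2).val < 5 → (l - 1).val < 6 := by decide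
    exact this l hl))

theorem exists_ne [Finite E] (h4 : 4 ≤ Nat.card E) : ∃ s : E, s ≠ 0 ∧ s ≠ 1 := by
  classical
  have := Fintype.ofFinite E
  rw [← Fintype.card_eq_nat_card] at h4
  have h1 : ({0, 1} : Finset E).card < (Finset.univ : Finset E).card := by
    refine lt_of_le_of_lt Finset.card_le_two ?_
    rw [Finset.card_univ]
    omega
  obtain ⟨s, -, hs⟩ := Finset.exists_mem_notMem_of_card_lt_card h1
  simp only [Finset.mem_insert, Finset.mem_singleton, not_or] at hs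
  exact ⟨s, hs.1, hs.2⟩

theorem P1_perf [Finite E] (h4 : 4 ≤ Nat.card E) :
    gen σ x (arc 1 7) ≤ ⁅gen σ x (arc 1 7), gen σ x (arc 1 7)⁆ := by
  obtain ⟨s, hs, hs1⟩ := exists_ne h h4
  exact (Cfsg.Agent.HexStart.P1_perfect h hs hs1).ge

/-- **`H` is directly indecomposable.** -/
theorem ind [Finite E] [Finite G] (h4 : 4 ≤ Nat.card E) (A B : Subgroup G) (hA : A ≤ gen σ x (arc 1 7))
    (hB : B ≤ gen σ x (arc 1 7)) (hAB : ∀ a ∈ A, ∀ b ∈ B, a * b = b * a) (hdis : A ⊓ B = ⊥)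
    (hH : ∀ y ∈ gen σ x (arc 1 7), ∃ a ∈ A, ∃ b ∈ B, y = a * b) : A = ⊥ ∨ B = ⊥ := by
  -- a factor in `Q` is trivial
  have key : ∀ A B : Subgroup G, A ≤ gen σ x (arc 1 7) → B ≤ gen σ x (arc 1 7) →
      (∀ a ∈ A, ∀ b ∈ B, a * b = b * a) → A ⊓ B = ⊥ →
      (∀ y ∈ gen σ x (arc 1 7), ∃ a ∈ A, ∃ b ∈ B, y = a * b) → B ≤ gen σ x (arc 2 5) → B = ⊥ := by
    intro A B hA hB hAB hdis hH hBQ
    have h1 := Input.proj_perf hAB hH (P1_perf h h4) (by
      intro y hy hy'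
      have : y ∈ A ⊓ B := ⟨hy, hy'⟩
      rwa [hdis, Subgroup.mem_bot] at this)
    have h2 : Input.proj hAB (gen σ x (arc 1 7)) = B := by
      apply le_antisymm
      · rintro b ⟨hb, -⟩
        exact hb
      · intro b hb
        exact ⟨hb, 1, one_mem _, by rw [one_mul]; exact hB hb⟩
    rw [h2] at h1
    exact CoreOf.eq_bot_of_two ((Q_two h).to_le hBQ) h1
  rcases le_or_le h h4 hA hB hAB hH with h1 | h1
  · left
    refine key B A hB hA (fun b hb a ha => (hAB a ha b hb).symm) (by rw [inf_comm]; exact hdis) ?_ h1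
    intro y hy
    obtain ⟨a, ha, b, hb, e⟩ := hH y hy
    exact ⟨b, hb, a, ha, by rw [e, hAB a ha b hb]⟩
  · right
    exact key A B hA hB hAB hdis hH h1

/-- `U` is a Sylow 2-subgroup of `K` -/
theorem syl [Finite E] [Finite G] : IsSyl (UU σ x) (AA σ x) := by
  refine ⟨h.isPGroup_U, gen_le_AA _, ?_⟩
  intro Q hQ hle hQK
  obtain ⟨g, hg, hgQ⟩ := h.sylow_conj (S := AA σ x) (gen_le_AA _) le_rfl hQ hQK
  have h1 : Q.map (MulAut.conj g).toMonoidHom ≤ UU σ x := by
    rintro _ ⟨q, hq, rfl⟩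
    exact hgQ q hq
  have h2 : Nat.card ↥(Q.map (MulAut.conj g).toMonoidHom) = Nat.card ↥Q :=
    (Nat.card_congr (Q.equivMapOfInjective _ (MulAut.conj g).injective).toEquiv).symm
  have h3 := Subgroup.card_le_of_le h1
  rw [h2] at h3
  exact (Subgroup.eq_of_le_of_card_ge hle h3).ge

/-- the centraliser of an element of `X₄` -/
theorem cent_X4 [Finite E] {w y : G} (hw : w ∈ gen σ x {4}) (hw1 : w ≠ 1) (hy : y ∈ AA σ x) (hc : y * w = w * y) :
    y ∈ gen σ x (arc 1 7) := by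
  obtain ⟨t, ht, rfl⟩ := h.mem_gen_singleton.1 hw
  have ht' : σ t = t := ht (by decide)
  have ht0 : t ≠ 0 := by
    rintro rfl
    exact hw1 (h.x_zero 4)
  apply (h.mem_centralizer_x4 hy ht' ht0).1
  rw [hc]; group

/-- an element inducing the identity on all root groups -/
theorem exists_field' [Finite E] [Finite G] (hN : NotTwo σ) {c : G} (hc : c ∈ normalizer (AA σ x : Set G)) :
    ∃ g ∈ AA σ x, ∃ τ : E ≃+* E, (∀ a, τ (σ a) = σ (τ a)) ∧
      ∀ k a, Ok σ k a → (g⁻¹ * c) * x k a * (g⁻¹ * c)⁻¹ = x k (τ a) := by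
  obtain ⟨g, hg, τ, hτ, e⟩ := HexK.exists_field h hN (c := c) (fun v hv => (mem_normalizer_iff.1 hc v).1 hv)
  refine ⟨g, hg, τ, hτ, fun k a ha => ?_⟩
  have h1 := e k a ha
  calc g⁻¹ * c * x k a * (g⁻¹ * c)⁻¹ = g⁻¹ * (c * x k a * c⁻¹) * g := by group
    _ = x k (τ a) := by rw [h1]; group

/-- **perfect subgroups of `N(K)` lie in `K C(K)`** -/
theorem out_le [Finite E] [Finite G] (hN : NotTwo σ) :
    ⁅normalizer (AA σ x : Set G), normalizer (AA σ x : Set G)⁆ ≤ AA σ x ⊔ centralizer (AA σ x : Set G) := by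
  rw [Subgroup.commutator_le]
  intro a ha b hb
  obtain ⟨g, hg, τ, hτ, e⟩ := exists_field' h hN ha
  obtain ⟨g', hg', τ', hτ', e'⟩ := exists_field' h hN hb
  set a' := g⁻¹ * a with ha'
  set b' := g'⁻¹ * b with hb'
  have hok : ∀ {ρ : E ≃+* E}, (∀ a, ρ (σ a) = σ (ρ a)) → ∀ {k : ZMod 12} {a : E}, Ok σ k a → Ok σ k (ρ a) := by
    intro ρ hρ k a hk h0
    rw [← hρ, hk h0]
  -- inverses
  have inv_act : ∀ {c : G} {ρ : E ≃+* E}, (∀ a, ρ (σ a) = σ (ρ a)) →
      (∀ k a, Ok σ k a → c * x k a * c⁻¹ = x k (ρ a)) → ∀ k a, Ok σ k a → c⁻¹ * x k a * c = x k (ρ.symm a) := by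
    intro c ρ hρ hc k a hk
    have hok' : Ok σ k (ρ.symm a) := by
      intro h0
      apply ρ.injective
      rw [hρ, ρ.apply_symm_apply, hk h0]
    have h1 := hc k _ hok'
    rw [ρ.apply_symm_apply] at h1
    rw [← h1]; group
  have hcen : ⁅a', b'⁆ ∈ centralizer (AA σ x : Set G) := by
    apply HexK.mem_cent_of
    intro k y hy
    have hy1 : Ok σ k (τ'.symm y) := by
      intro h0
      apply τ'.injective
      rw [hτ', τ'.apply_symm_apply, hy h0]
    have hy2 : Ok σ k (τ.symm (τ'.symm y)) := by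
      intro h0
      apply τ.injective
      rw [hτ, τ.apply_symm_apply, hy1 h0]
    have e3 := inv_act hτ' e' k y hy
    have e4 := inv_act hτ e k _ hy1
    have e5 := e' k _ hy2
    have e6 := e k _ (hok hτ' hy2)
    have e7 : τ (τ' (τ.symm (τ'.symm y))) = y := by
      rw [field_comm τ τ' , τ.apply_symm_apply, τ'.apply_symm_apply]
    rw [commutatorElement_def]
    calc a' * b' * a'⁻¹ * b'⁻¹ * x k y * (a' * b' * a'⁻¹ * b'⁻¹)⁻¹
        = a' * (b' * (a'⁻¹ * (b'⁻¹ * x k y * b') * a') * b'⁻¹) * a'⁻¹ := by group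
      _ = x k y := by rw [e3, e4, e5, e6, e7]
  have ma : ∀ v ∈ AA σ x, a' * v * a'⁻¹ ∈ AA σ x := by
    intro v hv
    have h1 := (mem_normalizer_iff.1 ha v).1 hv
    have e8 : a' * v * a'⁻¹ = g⁻¹ * (a * v * a⁻¹) * g := by rw [ha']; group
    rw [e8]
    exact mul_mem (mul_mem (inv_mem hg) h1) hg
  have mb : ∀ v ∈ AA σ x, b' * v * b'⁻¹ ∈ AA σ x := by
    intro v hv
    have h1 := (mem_normalizer_iff.1 hb v).1 hv
    have e8 : b' * v * b'⁻¹ = g'⁻¹ * (b * v * b⁻¹) * g' := by rw [hb']; group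
    rw [e8]
    exact mul_mem (mul_mem (inv_mem hg') h1) hg'
  have ma' : ∀ v ∈ AA σ x, a'⁻¹ * v * a' ∈ AA σ x := by
    intro v hv
    have h1 := (mem_normalizer_iff.1 (inv_mem ha) (g * v * g⁻¹)).1 (mul_mem (mul_mem hg hv) (inv_mem hg))
    have e8 : a'⁻¹ * v * a' = a⁻¹ * (g * v * g⁻¹) * a⁻¹⁻¹ := by rw [ha']; group
    rw [e8]
    exact h1
  have e9 : ⁅a, b⁆ = g * (a' * g' * a'⁻¹) * (a' * (b' * (a'⁻¹ * g⁻¹ * a') * b'⁻¹) * a'⁻¹) * (⁅a', b'⁆ * g'⁻¹) := by
    have h1 : a = g * a' := by rw [ha']; group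
    have h2 : b = g' * b' := by rw [hb']; group
    rw [commutatorElement_def, commutatorElement_def]
    generalize a' = A' at h1
    generalize b' = B' at h2
    rw [h1, h2]
    group
  rw [e9]
  have m1 : g * (a' * g' * a'⁻¹) * (a' * (b' * (a'⁻¹ * g⁻¹ * a') * b'⁻¹) * a'⁻¹) ∈ AA σ x :=
    mul_mem (mul_mem hg (ma g' hg')) (ma _ (mb _ (ma' _ (inv_mem hg))))
  exact mul_mem (Subgroup.mem_sup_left m1) (mul_mem (Subgroup.mem_sup_right hcen)
    (Subgroup.mem_sup_left (inv_mem hg')))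

/-- the centralisers of involutions of `H` generate `K` -/
theorem gen_J (J : Subgroup G)
    (hJ : ∀ y ∈ gen σ x (arc 1 7), y * y = 1 → y ≠ 1 → ∀ k ∈ AA σ x, k * y = y * k → k ∈ J) : AA σ x ≤ J := by
  -- long root elements of `H`
  have key : ∀ k : ZMod 12, k.val % 2 = 0 → (k - 1).val < 7 → ∀ j : ZMod 12, (j - (k - 3)).val < 7 → ∀ a, Ok σ j a →
      x j a ∈ J := by
    intro k hk hk7 j hj a ha
    refine hJ (x k 1) (x_mem_gen (by rw [mem_arc]; exact hk7) (ok_one σ k)) (h.x_sq (ok_one σ k)) ?_ (x j a)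
      (x_mem_AA ha) ?_
    · rw [Ne, h.x_eq_one (ok_one σ k)]
      exact one_ne_zero
    · exact (h.comm_long hk hj (ok_one σ k) ha).eq.symm
  have all : ∀ j : ZMod 12, j ≠ 10 → ∀ a, Ok σ j a → x j a ∈ J := by
    intro j hj a ha
    have hc : ∀ j : ZMod 12, j ≠ 10 → (j - (2 - 3)).val < 7 ∨ (j - (6 - 3)).val < 7 := by decide
    rcases hc j hj with h1 | h1
    · exact key 2 (by decide) (by decide) j h1 a ha
    · exact key 6 (by decide) (by decide) j h1 a ha
  -- the root `10` from `4` by the reflection at `1`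
  have hnn : nn x 1 ∈ J := by
    unfold nn
    have e1 : (1 : ZMod 12) + 6 = 7 := by decide
    rw [e1]
    exact mul_mem (mul_mem (all 1 (by decide) 1 (ok_one σ 1)) (all 7 (by decide) 1 (ok_one σ 7)))
      (all 1 (by decide) 1 (ok_one σ 1))
  have hnn6 : nn x 6 ∈ J := by
    unfold nn
    have e1 : (6 : ZMod 12) + 6 = 0 := by decide
    rw [e1]
    exact mul_mem (mul_mem (all 6 (by decide) 1 (ok_one σ 6)) (all 0 (by decide) 1 (ok_one σ 0)))
      (all 6 (by decide) 1 (ok_one σ 6))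
  refine gen_le (S := Set.univ) fun j _ a ha => ?_
  by_cases hj : j = 10
  · subst hj
    have h1 := h.refl6 8 a (ha.congr (by decide))
    have e1 : (6 : ZMod 12) - 8 = 10 := by decide
    rw [e1] at h1
    rw [← h1]
    exact mul_mem (mul_mem hnn6 (all 8 (by decide) a (ha.congr (by decide)))) (inv_mem hnn6)
  · exact all j hj a ha

theorem center_eq [Finite E] {k : G} (hk : k ∈ AA σ x) (hc : k ∈ centralizer (AA σ x : Set G)) : k = 1 := by
  apply center_eq_one h hk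
  intro k a ha
  exact mul_inv_eq_iff_eq_mul.2 (mem_centralizer_iff.1 hc _ (x_mem_AA ha)).symm

/-- **The instance.** -/
theorem inp [Finite E] [Finite G] (hFT : CoreOf.FTu.{u}) (hN : NotTwo σ) (h4 : 4 ≤ Nat.card E)
    (ht : TightAt (AA σ x)) (hev : Even (Nat.card ↥(centralizer (AA σ x : Set G))))
    (hstd : ∀ g : G, ¬ ∀ k ∈ AA σ x, ∀ l ∈ CommConj.cj g (AA σ x), k * l = l * k)
    (hs : IsSimpleGroup ↥(AA σ x)) : Input.Inp (AA σ x) (UU σ x) (gen σ x {4}) (gen σ x (arc 1 7)) where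
  syl := syl h
  tight := ht
  even := hev
  ctr := fun k hk hc => center_eq h hk hc
  std := hstd
  simp := by
    intro N hN hn
    have hnorm : (N.subgroupOf (AA σ x)).Normal := by
      refine ⟨fun n hn' g => ?_⟩
      rw [mem_subgroupOf] at hn' ⊢
      exact hn g g.2 n hn'
    rcases hnorm.eq_bot_or_eq_top with h1 | h1
    · left
      rw [subgroupOf_eq_bot, disjoint_iff] at h1
      rw [← h1]
      exact (inf_eq_left.mpr hN).symm
    · right
      rw [subgroupOf_eq_top] at h1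
      exact le_antisymm hN h1
  XS := gen_mono (by rintro l rfl; rw [mem_arc]; decide)
  SH := UU_le h
  HK := gen_le_AA _
  HX := fun y hy z hz => Cfsg.Agent.HexStart.X4_comm h hz hy
  perf := P1_perf h h4
  cen := by
    intro y hy _ hc
    obtain ⟨z, hz, hz'⟩ := HexK.aut_U h hN (c := y) (fun v hv => (mem_normalizer_iff.1 hy v).1 hv)
      (fun v hv => (hc v hv).symm)
    refine ⟨z⁻¹ * y, hz', z, hz, ?_⟩
    have h1 := mem_centralizer_iff.1 hz' z (gen_le_AA _ hz)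
    rw [← h1]; group
  res := fun w hw hw1 P hP _ hc y hy => cent_X4 h hw hw1 (hP hy) (hc y hy)
  out := fun P hP hPP => hPP.trans ((Subgroup.commutator_mono hP hP).trans (out_le h hN))
  ind := ind h h4
  gen := gen_J h
  core := fun Q hQ P hP hc hp => CoreOf.core_of hFT hQ hP hc hp

end

end Cfsg.Agent.OddHalf.DblR.HexG
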