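import Cfsg.Agent.OddHalf.DblR.HexK.KFour
import Cfsg.Agent.WeakTI.PslTwo
import Cfsg.Agent.TwoFusion.SLTwoFacts

/-!
# `G₂(q)`, `³D₄(q)`: the long root parabolic

`H = ⟨X₁, …, X₇⟩ = Q L`, `Q = ⟨X₂, …, X₆⟩`, `L = ⟨X₁, X₇⟩ ≅ SL₂(E)`, `|E| ≥ 4`.

* `L_simple` : `L` is simple;
* `le_or_le` : if `A`, `B` are commuting subgroups of `H` with `A B = H`, then `A ≤ Q` or `B ≤ Q`;
* `ind` : `H` is directly indecomposable.
-/

set_option autoImplicit false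
set_option maxHeartbeats 400000
set_option linter.unusedSectionVars false

namespace Cfsg.Agent.OddHalf.DblR.HexG

open Subgroup Cfsg.Agent.StdRank2.Hex Cfsg.Agent.StdRank2.Hex.HexTwo Cfsg.Agent.SplitTwo
open scoped commutatorElement

variable {E : Type*} [Field E] {σ : E ≃+* E} {G : Type*} [Group G] {x : ZMod 12 → E → G} (h : HexTwo σ x)
include h

theorem L_le : gen σ x {(1 : ZMod 12), 1 + 6} ≤ gen σ x (arc 1 7) := gen_mono (by
  rintro l (rfl | rfl)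
  · rw [mem_arc]; decide
  · rw [mem_arc]; decide)

theorem Q_le : gen σ x (arc 2 5) ≤ gen σ x (arc 1 7) := gen_mono (by
  intro l hl
  rw [mem_arc] at hl ⊢
  have : ∀ l : ZMod 12, (l - 2).val < 5 → (l - 1).val < 7 := by decide
  exact this l hl)

theorem mem_P1 {g : G} : g ∈ gen σ x (arc 1 7) ↔
    ∃ q ∈ gen σ x (arc 2 5), ∃ l ∈ gen σ x {(1 : ZMod 12), 1 + 6}, g = q * l := h.mem_P 1

/-- `L` is simple. -/
theorem L_simple [Finite E] (h4 : 4 ≤ Nat.card E) (N : Subgroup G) (hN : N ≤ gen σ x {(1 : ZMod 12), 1 + 6})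
    (hn : ∀ l ∈ gen σ x {(1 : ZMod 12), 1 + 6}, ∀ y ∈ N, l * y * l⁻¹ ∈ N) :
    N = ⊥ ∨ N = gen σ x {(1 : ZMod 12), 1 + 6} := by
  classical
  have := Fintype.ofFinite E
  have hch : CharP E 2 := h.charP_two
  rw [← Fintype.card_eq_nat_card] at h4
  have hs : IsSimpleGroup (Matrix.ProjectiveSpecialLinearGroup (Fin 2) E) :=
    Cfsg.Agent.TwoFusion.SLTwoFacts.isSimpleGroup_psl (by omega)
  obtain ⟨e1⟩ := Cfsg.Agent.WeakTI.PslTwo.nonempty_equiv (F := E)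
  obtain ⟨e2⟩ := h.exists_equiv_sl (Par.odd (E := E) (σ := σ) (k := 1) (by decide))
  have hs2 : IsSimpleGroup ↥(gen σ x {(1 : ZMod 12), 1 + 6}) := (e2.symm.trans e1).isSimpleGroup
  have hnorm : (N.subgroupOf (gen σ x {(1 : ZMod 12), 1 + 6})).Normal := by
    refine ⟨fun n hn' g => ?_⟩
    rw [mem_subgroupOf] at hn' ⊢
    exact hn g g.2 n hn'
  rcases hnorm.eq_bot_or_eq_top with h1 | h1
  · left
    rw [subgroupOf_eq_bot, disjoint_iff] at h1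
    rw [← h1]
    exact (inf_eq_left.mpr hN).symm
  · right
    rw [subgroupOf_eq_top] at h1
    exact le_antisymm hN h1

/-- `L ∩ Q = 1` -/
theorem L_inf_Q [Finite E] (h4 : 4 ≤ Nat.card E) :
    gen σ x {(1 : ZMod 12), 1 + 6} ⊓ gen σ x (arc 2 5) = ⊥ := by
  rcases L_simple h h4 (gen σ x {(1 : ZMod 12), 1 + 6} ⊓ gen σ x (arc 2 5)) inf_le_left (by
    rintro l hl y ⟨hy1, hy2⟩
    exact Subgroup.mem_inf.2 ⟨mul_mem (mul_mem hl hy1) (inv_mem hl), h.L_conj 1 hl hy2⟩) with h1 | h1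
  · exact h1
  · exfalso
    have h2 : x 1 1 ∈ gen σ x {(1 : ZMod 12), 1 + 6} ⊓ gen σ x (arc 2 5) := by
      rw [h1]
      exact x_mem_gen (Set.mem_insert _ _) (ok_one σ 1)
    have h3 := h.root_mem_arc (k := 2) (j := 1) (n := 5) (by norm_num) (ok_one σ 1) one_ne_zero h2.2
    rw [mem_arc] at h3
    exact absurd h3 (by decide)

/-- `Q` is normal in `H` -/
theorem Q_normal {g y : G} (hg : g ∈ gen σ x (arc 1 7)) (hy : y ∈ gen σ x (arc 2 5)) :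
    g * y * g⁻¹ ∈ gen σ x (arc 2 5) := by
  obtain ⟨q, hq, l, hl, rfl⟩ := (mem_P1 h).1 hg
  have h1 := h.L_conj 1 hl hy
  have e : q * l * y * (q * l)⁻¹ = q * (l * y * l⁻¹) * q⁻¹ := by group
  rw [e]
  exact mul_mem (mul_mem hq h1) (inv_mem hq)

theorem not_comm [Finite E] : x 1 1 * x 7 1 ≠ x 7 1 * x 1 1 := by
  intro e
  -- the conjugate of `x 1 1` under `nn x 1` is `x 7 1`
  have h1 : nn x 1 * x 1 1 * (nn x 1)⁻¹ = x (8 - 1) 1 := h.refl1 1 1 (ok_one σ 1)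
  have e1 : (1 : ZMod 12) + 6 = 7 := by decide
  have e2 : (8 : ZMod 12) - 1 = 7 := by decide
  have hnn : nn x 1 = x 1 1 * x 7 1 * x 1 1 := by
    unfold nn
    rw [e1]
  have c : Commute (x 1 1) (x 7 1) := e
  rw [hnn, e2] at h1
  have c2 : Commute (x 1 1 * x 7 1 * x 1 1) (x 1 1) :=
    (((Commute.refl _).mul_left c.symm).mul_left (Commute.refl _))
  rw [c2.eq, mul_inv_cancel_right] at h1
  have h2 := h.root_unique (ok_one σ 1) (ok_one σ 7) one_ne_zero h1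
  exact absurd h2 (by decide)

theorem le_or_le [Finite E] (h4 : 4 ≤ Nat.card E) {A B : Subgroup G} (hA : A ≤ gen σ x (arc 1 7))
    (hB : B ≤ gen σ x (arc 1 7)) (hAB : ∀ a ∈ A, ∀ b ∈ B, a * b = b * a)
    (hH : ∀ y ∈ gen σ x (arc 1 7), ∃ a ∈ A, ∃ b ∈ B, y = a * b) :
    A ≤ gen σ x (arc 2 5) ∨ B ≤ gen σ x (arc 2 5) := by
  -- `A` is normal in `H`
  have nA : ∀ y ∈ gen σ x (arc 1 7), ∀ a ∈ A, y * a * y⁻¹ ∈ A := by
    intro y hy a ha
    obtain ⟨a', ha', b, hb, rfl⟩ := hH y hy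
    have h1 := hAB a ha b hb
    have e : a' * b * a * (a' * b)⁻¹ = a' * a * a'⁻¹ := by
      calc a' * b * a * (a' * b)⁻¹ = a' * (b * a) * b⁻¹ * a'⁻¹ := by group
        _ = a' * a * a'⁻¹ := by rw [← h1]; group
    rw [e]
    exact mul_mem (mul_mem ha' ha) (inv_mem ha')
  have nB : ∀ y ∈ gen σ x (arc 1 7), ∀ b ∈ B, y * b * y⁻¹ ∈ B := by
    intro y hy b hb
    obtain ⟨a, ha, b', hb', rfl⟩ := hH y hy
    have h1 := hAB a ha _ (mul_mem (mul_mem hb' hb) (inv_mem hb'))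
    have e : a * b' * b * (a * b')⁻¹ = b' * b * b'⁻¹ := by
      calc a * b' * b * (a * b')⁻¹ = (a * (b' * b * b'⁻¹)) * a⁻¹ := by group
        _ = b' * b * b'⁻¹ := by rw [h1]; group
    rw [e]
    exact mul_mem (mul_mem hb' hb) (inv_mem hb')
  -- the image of a normal subgroup in `L`
  have key : ∀ C : Subgroup G, C ≤ gen σ x (arc 1 7) → (∀ y ∈ gen σ x (arc 1 7), ∀ a ∈ C, y * a * y⁻¹ ∈ C) →
      C ≤ gen σ x (arc 2 5) ∨
      ∀ l ∈ gen σ x {(1 : ZMod 12), 1 + 6}, ∃ a ∈ C, ∃ q ∈ gen σ x (arc 2 5), l = a * q := by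
    intro C hC nC
    have hCn : C ≤ normalizer (gen σ x (arc 2 5) : Set G) := by
      intro c hc
      rw [mem_normalizer_iff]
      intro y
      constructor
      · intro hy
        exact Q_normal h (hC hc) hy
      · intro hy
        have := Q_normal h (inv_mem (hC hc)) hy
        have e : c⁻¹ * (c * y * c⁻¹) * c⁻¹⁻¹ = y := by group
        rwa [e] at this
    have hsup : ∀ z, z ∈ C ⊔ gen σ x (arc 2 5) ↔ ∃ a ∈ C, ∃ q ∈ gen σ x (arc 2 5), z = a * q := by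
      intro z
      rw [← SetLike.mem_coe, Subgroup.coe_mul_of_left_le_normalizer_right _ _ hCn]
      constructor
      · rintro ⟨a, ha, q, hq, e⟩
        exact ⟨a, ha, q, hq, e.symm⟩
      · rintro ⟨a, ha, q, hq, e⟩
        exact ⟨a, ha, q, hq, e.symm⟩
    rcases L_simple h h4 (gen σ x {(1 : ZMod 12), 1 + 6} ⊓ (C ⊔ gen σ x (arc 2 5))) inf_le_left (by
      rintro l hl y ⟨hy1, hy2⟩
      refine Subgroup.mem_inf.2 ⟨mul_mem (mul_mem hl hy1) (inv_mem hl), ?_⟩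
      obtain ⟨a, ha, q, hq, rfl⟩ := (hsup y).1 hy2
      have hlH := L_le h hl
      refine (hsup _).2 ⟨l * a * l⁻¹, nC l hlH a ha, l * q * l⁻¹, Q_normal h hlH hq, by group⟩) with h1 | h1
    · left
      intro c hc
      obtain ⟨q, hq, l, hl, e⟩ := (mem_P1 h).1 (hC hc)
      have h2 : l ∈ gen σ x {(1 : ZMod 12), 1 + 6} ⊓ (C ⊔ gen σ x (arc 2 5)) := by
        refine ⟨hl, ?_⟩
        have e2 : l = q⁻¹ * c := by rw [e]; group
        rw [e2]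
        exact mul_mem (Subgroup.mem_sup_right (inv_mem hq)) (Subgroup.mem_sup_left hc)
      rw [h1, Subgroup.mem_bot] at h2
      rw [e, h2, mul_one]
      exact hq
    · right
      intro l hl
      rw [← h1] at hl
      exact (hsup l).1 hl.2
  rcases key A hA nA with h1 | h1
  · exact Or.inl h1
  rcases key B hB nB with h2 | h2
  · exact Or.inr h2
  exfalso
  have m1 : x 1 1 ∈ gen σ x {(1 : ZMod 12), 1 + 6} := x_mem_gen (Set.mem_insert _ _) (ok_one σ 1)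
  have m7 : x 7 1 ∈ gen σ x {(1 : ZMod 12), 1 + 6} :=
    x_mem_gen (k := 7) (Set.mem_insert_of_mem _ (by rw [Set.mem_singleton_iff]; decide)) (ok_one σ 7)
  obtain ⟨a, ha, q, hq, e1⟩ := h1 _ m1
  obtain ⟨b, hb, q', hq', e2⟩ := h2 _ m7
  have hc := hAB a ha b hb
  -- the commutator lies in `Q`
  have h3 : x 1 1 * x 7 1 * (x 1 1)⁻¹ * (x 7 1)⁻¹ ∈ gen σ x (arc 2 5) := by
    have e3 : x 1 1 * x 7 1 * (x 1 1)⁻¹ * (x 7 1)⁻¹ =
        (a * q * a⁻¹) * ((a * b) * (q' * (q⁻¹)) * (a * b)⁻¹) * (b * q'⁻¹ * b⁻¹) := by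
      rw [e1, e2]
      have e4 : b * q' * (a * q)⁻¹ = b * (q' * q⁻¹) * a⁻¹ := by group
      calc a * q * (b * q') * (a * q)⁻¹ * (b * q')⁻¹ = a * q * (b * (q' * q⁻¹) * a⁻¹) * (b * q')⁻¹ := by group
        _ = (a * q * a⁻¹) * ((a * b) * (q' * q⁻¹)) * (b * a)⁻¹ * (b * q'⁻¹ * b⁻¹) := by group
        _ = (a * q * a⁻¹) * ((a * b) * (q' * q⁻¹)) * (a * b)⁻¹ * (b * q'⁻¹ * b⁻¹) := by rw [hc]
        _ = _ := by group
    rw [e3]
    exact mul_mem (mul_mem (Q_normal h (hA ha) hq)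
      (Q_normal h (mul_mem (hA ha) (hB hb)) (mul_mem hq' (inv_mem hq)))) (Q_normal h (hB hb) (inv_mem hq'))
  have h5 : x 1 1 * x 7 1 * (x 1 1)⁻¹ * (x 7 1)⁻¹ ∈
      gen σ x {(1 : ZMod 12), 1 + 6} ⊓ gen σ x (arc 2 5) :=
    Subgroup.mem_inf.2 ⟨mul_mem (mul_mem (mul_mem m1 m7) (inv_mem m1)) (inv_mem m7), h3⟩
  rw [L_inf_Q h h4, Subgroup.mem_bot] at h5
  apply not_comm h
  calc x 1 1 * x 7 1 = (x 1 1 * x 7 1 * (x 1 1)⁻¹ * (x 7 1)⁻¹) * (x 7 1 * x 1 1) := by group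
    _ = x 7 1 * x 1 1 := by rw [h5, one_mul]

end Cfsg.Agent.OddHalf.DblR.HexG
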