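import Cfsg.Agent.OddHalf.DblR.HexK.KFour
import Cfsg.Agent.HexRec.FixedField

/-!
# `G₂(q)`, `³D₄(q)`: the norms generate the fixed field

* `refl` : `σ = 1`, `q = 2ᵃ ≥ 8`: the cubes generate the field;
* `of_ne` : `σ³ = 1 ≠ σ`, `E` finite: the norm onto the fixed field is surjective.
-/

set_option autoImplicit false
set_option maxHeartbeats 400000

namespace Cfsg.Agent.OddHalf.DblR.HexG.NormGen

open Cfsg.Agent.SplitTwo Cfsg.Agent.OddHalf.DblR.HexK

section Refl

variable {F : Type*} [Field F]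

/-- `t ↦ t² + t` -/
def wp (h2 : (2 : F) = 0) : F →+ F where
  toFun t := t ^ 2 + t
  map_zero' := by ring
  map_add' a b := by linear_combination (a * b) * h2

theorem wp_mem (h2 : (2 : F) = 0) (t : F) :
    t ^ 2 + t ∈ Subring.closure {y : F | ∃ a, y = nrm (RingEquiv.refl F) a} := by
  have h1 : ∀ a : F, a ^ 3 ∈ Subring.closure {y : F | ∃ a, y = nrm (RingEquiv.refl F) a} := fun a =>
    Subring.subset_closure ⟨a, by simp only [nrm, RingEquiv.refl_apply]; ring⟩
  have e : t ^ 2 + t = (t + 1) ^ 3 - t ^ 3 - 1 := by linear_combination (-t ^ 2 - t) * h2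
  rw [e]
  exact sub_mem (sub_mem (h1 _) (h1 _)) (one_mem _)

theorem inv_mem_of_finite [Finite F] (R : Subring F) {r : F} (hr : r ∈ R) : r⁻¹ ∈ R := by
  by_cases h0 : r = 0
  · rw [h0, inv_zero]
    exact R.zero_mem
  have := Fintype.ofFinite F
  have h1 : r ^ (Fintype.card F - 1) = 1 := FiniteField.pow_card_sub_one_eq_one r h0
  have h2 : 1 < Fintype.card F := Fintype.one_lt_card
  have h3 : r⁻¹ = r ^ (Fintype.card F - 2) := by
    apply inv_eq_of_mul_eq_one_right
    rw [← pow_succ', show Fintype.card F - 2 + 1 = Fintype.card F - 1 by omega, h1]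
  rw [h3]
  exact pow_mem hr _

theorem refl [Finite F] (h2 : (2 : F) = 0) (hq : 8 ≤ Nat.card F) : NormGen (RingEquiv.refl F) := by
  classical
  intro x _
  set R := Subring.closure {y : F | ∃ a, y = nrm (RingEquiv.refl F) a} with hR
  have hle : (wp h2).range ≤ R.toAddSubgroup := by
    rintro _ ⟨t, rfl⟩
    exact wp_mem h2 t
  have hker : Nat.card (wp h2).ker ≤ 2 := by
    have : ((wp h2).ker : Set F) ⊆ {0, 1} := by
      intro t ht
      have ht' : t ^ 2 + t = 0 := ht
      have : t * (t + 1) = 0 := by linear_combination ht'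
      rcases mul_eq_zero.1 this with h | h
      · exact Or.inl h
      · have : t = 1 := by linear_combination h - h2
        exact Or.inr this
    calc Nat.card (wp h2).ker = Set.ncard ((wp h2).ker : Set F) := rfl
      _ ≤ Set.ncard ({0, 1} : Set F) := Set.ncard_le_ncard this
      _ ≤ 2 := by
        rw [Set.ncard_pair zero_ne_one]
  have hidx : (wp h2).range.index ≤ 2 := by
    have e1 := (wp h2).range.card_mul_index
    have e2 := (wp h2).ker.card_mul_index
    rw [AddSubgroup.index_ker] at e2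
    have hpos : 0 < Nat.card (wp h2).range := Nat.card_pos
    have : (wp h2).range.index = Nat.card (wp h2).ker := by
      apply Nat.eq_of_mul_eq_mul_left hpos
      rw [e1, ← e2, mul_comm]
    omega
  have hidx2 : R.toAddSubgroup.index ≤ 2 :=
    (Nat.le_of_dvd (Nat.pos_of_ne_zero AddSubgroup.FiniteIndex.index_ne_zero)
      (AddSubgroup.index_dvd_of_le hle)).trans hidx
  have hne0 : R.toAddSubgroup.index ≠ 0 := AddSubgroup.FiniteIndex.index_ne_zero
  by_contra hx
  have hi : R.toAddSubgroup.index = 2 := by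
    have : R.toAddSubgroup.index ≠ 1 := by
      intro h1
      rw [AddSubgroup.index_eq_one] at h1
      apply hx
      have : x ∈ R.toAddSubgroup := by rw [h1]; trivial
      exact this
    omega
  have hc : 4 ≤ Nat.card R.toAddSubgroup := by
    have := R.toAddSubgroup.card_mul_index
    rw [hi] at this
    omega
  obtain ⟨r, hr, hr0, hr1⟩ : ∃ r ∈ R, r ≠ 0 ∧ r ≠ 1 := by
    by_contra hcon
    push Not at hcon
    have : ((R.toAddSubgroup : AddSubgroup F) : Set F) ⊆ {0, 1} := by
      intro t ht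
      by_cases h0 : t = 0
      · exact Or.inl h0
      · exact Or.inr (hcon t ht h0)
    have h3 : Nat.card R.toAddSubgroup ≤ 2 := by
      calc Nat.card R.toAddSubgroup = Set.ncard ((R.toAddSubgroup : AddSubgroup F) : Set F) := rfl
        _ ≤ Set.ncard ({0, 1} : Set F) := Set.ncard_le_ncard this
        _ ≤ 2 := by rw [Set.ncard_pair zero_ne_one]
    omega
  have hmul : ∀ s ∈ R, s ≠ 0 → s * x ∉ R := by
    intro s hs hs0 hsx
    apply hx
    have := R.mul_mem (inv_mem_of_finite R hs) hsx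
    rwa [inv_mul_cancel_left₀ hs0] at this
  have hrx := hmul r hr hr0
  have hadd : r * x + x ∈ R.toAddSubgroup := by
    rw [AddSubgroup.add_mem_iff_of_index_two hi]
    exact ⟨fun h => absurd h hrx, fun h => absurd h hx⟩
  have hr1' : r + 1 ≠ 0 := fun h => hr1 (by linear_combination h - h2)
  refine hmul (r + 1) (R.add_mem hr R.one_mem) hr1' ?_
  rw [add_mul, one_mul]
  exact hadd

end Refl

section Ne

variable {E : Type*} [Field E] [Finite E] (σ : E ≃+* E)

open HexRec.FixedField in
/-- the norm onto the fixed field is surjective -/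
theorem exists_nrm (h3 : ∀ t, σ (σ (σ t)) = t) (hne : ∃ t, σ t ≠ t) {s : E} (hs : σ s = s) : ∃ a, nrm σ a = s := by
  classical
  have hfr : Module.finrank (Fx σ) E = 3 := finrank_eq σ h3 hne
  obtain ⟨a, ha⟩ := FiniteField.norm_surjective (Fx σ) E ⟨s, (mem_Fx σ).2 hs⟩
  refine ⟨a, ?_⟩
  have h1 := Algebra.norm_eq_prod_automorphisms (Fx σ) a
  rw [ha] at h1
  have hcard : Fintype.card (E ≃ₐ[Fx σ] E) = 3 := by
    rw [Fintype.card_eq_nat_card, IsGalois.card_aut_eq_finrank, hfr]
  obtain ⟨t0, ht0⟩ := hne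
  have n1 : (1 : E ≃ₐ[Fx σ] E) ≠ phi σ := by
    intro h
    apply ht0
    have := congrArg (fun f : E ≃ₐ[Fx σ] E => f t0) h
    exact this.symm
  have n2 : (1 : E ≃ₐ[Fx σ] E) ≠ phi σ * phi σ := by
    intro h
    apply ht0
    have h' : σ (σ t0) = t0 := by
      have := congrArg (fun f : E ≃ₐ[Fx σ] E => f t0) h
      exact this.symm
    have := h3 t0
    rw [h'] at this
    exact this
  have n3 : phi σ ≠ phi σ * phi σ := by
    intro h
    apply n1
    exact (left_eq_mul.1 h).symm
  have huniv : (Finset.univ : Finset (E ≃ₐ[Fx σ] E)) = {1, phi σ, phi σ * phi σ} := by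
    symm
    apply Finset.eq_univ_of_card
    rw [hcard, Finset.card_eq_three]
    exact ⟨_, _, _, n1, n2, n3, rfl⟩
  rw [huniv, Finset.prod_insert (by simp [n1, n2]), Finset.prod_insert (by simp [n3]),
    Finset.prod_singleton] at h1
  change s = _ at h1
  rw [h1]
  change nrm σ a = a * (σ a * σ (σ a))
  rw [nrm, mul_assoc]

theorem norm_onto (h3 : ∀ t, σ (σ (σ t)) = t) (hne : ∃ t, σ t ≠ t) (b : E) (hb : σ b = b) (hb0 : b ≠ 0) :
    ∃ s, s ≠ 0 ∧ nrm σ s = b := by
  obtain ⟨s, hs⟩ := exists_nrm σ h3 hne hb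
  refine ⟨s, ?_, hs⟩
  rintro rfl
  apply hb0
  rw [← hs, nrm, zero_mul, zero_mul]

theorem of_ne (h3 : ∀ t, σ (σ (σ t)) = t) (hne : ∃ t, σ t ≠ t) : HexK.NormGen σ := by
  intro s hs
  obtain ⟨a, ha⟩ := exists_nrm σ h3 hne hs
  exact Subring.subset_closure ⟨a, ha.symm⟩

end Ne

end Cfsg.Agent.OddHalf.DblR.HexG.NormGen
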